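import Groth.Agent.CalgA.UnivCat
import Groth.Agent.Ega4A.RegCM
import Groth.Agent.S0603
import Groth.Agent.S0564
import Mathlib.RingTheory.RegularLocalRing.Defs
import Mathlib.RingTheory.DiscreteValuationRing.TFAE
import Mathlib.RingTheory.DedekindDomain.Dvr

/-!
# Principal ideal domains are universally catenary
-/

set_option autoImplicit false
universe u

open IsLocalRing

namespace Groth.Agent.Etbc.H208.PidCat

theorem isUniversallyCatenary_of_isRegularLocalRing (P : Type u) [CommRing P]
    [IsRegularLocalRing P] : CAlg.IsUniversallyCatenary P := by
  have : LocCoh.IsCohenMacaulayRing P :=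
    { isCohenMacaulayLocalRing_localization := fun p _ => by
        have := Groth.Agent.S0564.result P p
        exact Groth.Agent.Ega4A.RegCM.isCohenMacaulayLocalRing_of_isRegularLocalRing _ }
  exact Groth.Agent.S0603.result P

/-- A principal ideal domain is universally catenary. -/
theorem isUniversallyCatenary_pid (V : Type u) [CommRing V] [IsDomain V] [IsPrincipalIdealRing V] :
    CAlg.IsUniversallyCatenary V := by
  rw [CalgA.UnivCat.isUniversallyCatenary_iff_localization_prime]
  intro m hm
  have hD : IsDomain (Localization.AtPrime m) :=
    IsLocalization.isDomain_localization m.primeCompl_le_nonZeroDivisors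
  have hN : IsNoetherianRing (Localization.AtPrime m) :=
    IsLocalization.isNoetherianRing m.primeCompl _ inferInstance
  obtain ⟨a, ha⟩ := (IsPrincipalIdealRing.principal m).principal
  change m = Ideal.span {a} at ha
  have hmax : maximalIdeal (Localization.AtPrime m) =
      Ideal.span {algebraMap V (Localization.AtPrime m) a} := by
    rw [← Localization.AtPrime.map_eq_maximalIdeal]
    exact (congrArg (Ideal.map (algebraMap V (Localization.AtPrime m))) ha).trans
      (by rw [Ideal.map_span, Set.image_singleton])
  have hP : IsPrincipalIdealRing (Localization.AtPrime m) :=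
    ((tfae_of_isNoetherianRing_of_isLocalRing_of_isDomain (Localization.AtPrime m)).out 4 0).1
      (show (maximalIdeal (Localization.AtPrime m)).IsPrincipal from ⟨⟨_, hmax⟩⟩)
  exact isUniversallyCatenary_of_isRegularLocalRing _

end Groth.Agent.Etbc.H208.PidCat
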