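import Groth.Agent.Etrest.TorsEt
import Groth.Agent.Etbc.H211.PrimTors
import Groth.Agent.Sga5.EtKilled

/-!
# Cohomology of `ℓ`-primary torsion sheaves from sheaves killed by a power of `ℓ`
-/

set_option autoImplicit false
universe u

open CategoryTheory CategoryTheory.Limits AlgebraicGeometry Opposite

namespace Groth.Agent.Etbc.H208.PrimDev

open Groth.Agent.Etrest.Tors Groth.Agent.EtpbcA.TorsColim Groth.Agent.Etrest.TorsEt

variable {X : Scheme.{u}}

/-- An `ℓ`-primary torsion sheaf killed by a positive integer is killed by a power of `ℓ`. -/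
theorem killedBy_pow {ℓ : ℕ} (hℓ : ℓ.Prime) {F : EtCoh.Ab X} (hF : _root_.Dix.IsPrimaryTorsion ℓ F)
    {n : ℕ} (hn : 0 < n) (h : EtCoh.KilledBy n F) : EtCoh.KilledBy (ℓ ^ (n.factorization ℓ)) F := by
  intro U s
  refine Groth.Agent.Etbase.EtSite.sect_eq_zero F U _ (fun x => ?_)
  obtain ⟨V, g, ⟨v, hv⟩, k, hk⟩ := hF U s x
  refine ⟨V, g, v, hv, ?_⟩
  rw [map_nsmul]
  have h1 : addOrderOf (F.obj.map g.op s) ∣ ℓ ^ k := addOrderOf_dvd_of_nsmul_eq_zero hk
  have h2 : addOrderOf (F.obj.map g.op s) ∣ n := addOrderOf_dvd_of_nsmul_eq_zero (h V _)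
  obtain ⟨j, -, hj⟩ := (Nat.dvd_prime_pow hℓ).1 h1
  rw [hj] at h2
  rw [← addOrderOf_dvd_iff_nsmul_eq_zero, hj]
  exact pow_dvd_pow _ ((hℓ.pow_dvd_iff_le_factorization hn.ne').1 h2)

theorem isPrimaryTorsion_of_mono {ℓ : ℕ} {F G : EtCoh.Ab X} (f : F ⟶ G) [Mono f]
    (hG : _root_.Dix.IsPrimaryTorsion ℓ G) : _root_.Dix.IsPrimaryTorsion ℓ F := by
  intro U s x
  obtain ⟨V, g, hv, k, hk⟩ := hG U (f.hom.app (op U) s) x
  refine ⟨V, g, hv, k, ?_⟩
  apply Groth.Agent.EtpbcA.RpushTors.injective_of_mono f V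
  rw [map_nsmul, map_zero]
  have := NatTrans.naturality_apply f.hom g.op s
  exact (congrArg (fun t => ℓ ^ k • t) this).trans hk

/-- Vanishing in a fixed degree for sheaves killed by a power of `ℓ` implies vanishing for
`ℓ`-primary torsion sheaves. -/
theorem subsingleton_of_killedBy [CompactSpace X] [QuasiSeparatedSpace X] {ℓ : ℕ} (hℓ : ℓ.Prime)
    (q : ℕ) (h : ∀ (k : ℕ) (G : EtCoh.Ab X), EtCoh.KilledBy (ℓ ^ k) G → Subsingleton (EtCoh.H X G q))
    (F : EtCoh.Ab X) (hF : _root_.Dix.IsPrimaryTorsion ℓ F) : Subsingleton (EtCoh.H X F q) := by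
  have hadd := Groth.Agent.S0124.additive_HF X q
  have hpres := Groth.Agent.S0124.preservesNat X q
  have htors : EtCoh.IsTorsion F :=
    Groth.Agent.Etbc.H211.PrimTors.isTorsion_of_isPrimaryTorsion hℓ.pos hF
  have := isIso_torι_of_isTorsion F htors
  obtain ⟨e⟩ := nonempty_iso_tor F
  let e' : colimit (kernel (δ F)) ≅ F := e ≪≫ asIso (torι.app F)
  have hD : ∀ n, Subsingleton ((EtCoh.HF X q).obj ((kernel (δ F)).obj n)) := fun n => by
    have hm : Mono ((kernel.ι (δ F)).app n) := inferInstance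
    have h1 : _root_.Dix.IsPrimaryTorsion ℓ ((kernel (δ F)).obj n) :=
      isPrimaryTorsion_of_mono ((kernel.ι (δ F)).app n) hF
    exact h _ _ (killedBy_pow hℓ h1 (Nat.factorial_pos n) (killedBy_of_nsmul (nsmul_kernel_δ F n)))
  have hc := isColimitOfPreserves (EtCoh.HF X q) (colimit.isColimit (kernel (δ F)))
  have hsub : Subsingleton ((EtCoh.HF X q).obj (colimit (kernel (δ F)))) := by
    have : PreservesFilteredColimitsOfSize.{0, 0} (forget AddCommGrpCat.{u + 1}) :=
      preservesSmallestFilteredColimits_of_preservesFilteredColimits _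
    refine ⟨fun x y => ?_⟩
    have key : ∀ z : (EtCoh.HF X q).obj (colimit (kernel (δ F))), z = 0 := by
      intro z
      obtain ⟨n, w, hw⟩ := Concrete.isColimit_exists_rep (kernel (δ F) ⋙ EtCoh.HF X q) hc z
      have h0 : w = 0 := (hD n).elim _ _
      rw [← hw, h0]
      exact map_zero _
    rw [key x, key y]
  exact ((EtCoh.HF X q).mapIso e').symm.addCommGroupIsoToAddEquiv.toEquiv.subsingleton

end Groth.Agent.Etbc.H208.PrimDev
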